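import Cfsg.Agent.Lib.Schur.Ru.Data2

/-!
Kernel checks for the 2-part of the multiplier of the Rudvalis group.
-/

set_option autoImplicit false
set_option maxRecDepth 100000
set_option maxHeartbeats 0
set_option Elab.async false

namespace CfsgLib.Schur.Sporadic.Ru

open CfsgLib.Sporadic.OutCert

theorem cert2_eqs : cert2.eqsOK = true := by decide +kernel

theorem cert2_comb : cert2.combOK = true := by decide +kernel

theorem cert2_shape : cert2.shapeOK = true ∧ cert2.p = 2 ∧ cert2.r = 14 ∧ cert2.r - cert2.a = 11 ∧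
    ¬ 2 ∣ cert2.m ∧ cert2.b = 2 ∧ ¬ 2 ^ (14 + 1) ∣ 145926144000 := by decide +kernel

end CfsgLib.Schur.Sporadic.Ru
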