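import Cfsg.Agent.Lib.Schur.Ru.Data2

/-!
Kernel checks for the 2-part of the multiplier of the Rudvalis group.
-/

set_option autoImplicit false
set_option maxRecDepth 100000
set_option maxHeartbeats 0
set_option Elab.async false

namespace CfsgLib.Schur.Sporadic.Ru

open CfsgLib.Sporadic.OutCert

theorem pick2_ok : Tails.pickK 12 4060 slpTab2 ids2 kk2 = true ∧
    Tails.pickK 12 4060 slpTab2 gids2 gk2 = true := by decide +kernel

theorem chain2_ok : Tails.chainK 12 4060 kk2 lev2 levW2 0 cert2.r (2 ^ 14) = true := by decide +kernel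

theorem chain2in_ok : Tails.chainK 12 4060 kk2 lev2In levW2In cert2.a cert2.r (2 ^ 11) = true := by decide +kernel

end CfsgLib.Schur.Sporadic.Ru
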