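import Cfsg.Agent.Lib.Schur.Ru.Data2

/-!
Kernel checks for the 2-part of the multiplier of the Rudvalis group.
-/

set_option autoImplicit false
set_option maxRecDepth 100000
set_option maxHeartbeats 0
set_option Elab.async false

namespace CfsgLib.Schur.Sporadic.Ru

open CfsgLib.Sporadic.OutCert

theorem fus2_ok : Tails.fusK 12 4060 kk2 gk2 cert2 = true := by decide +kernel

end CfsgLib.Schur.Sporadic.Ru
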