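import Cfsg.Agent.Lib.Schur.Ru.Data5

/-!
Kernel checks for the 5-part of the multiplier of the Rudvalis group.
-/

set_option autoImplicit false
set_option maxRecDepth 100000
set_option maxHeartbeats 0
set_option Elab.async false

namespace CfsgLib.Schur.Sporadic.Ru

open CfsgLib.Sporadic.OutCert

theorem slp5_ok : Tails.slpK 12 4060 7 slpTab5 slpW5 = true := by decide +kernel

theorem pick5_ok : Tails.pickK 12 4060 slpTab5 ids5 kk5 = true ∧
    Tails.pickK 12 4060 slpTab5 gids5 gk5 = true := by decide +kernel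

theorem rels5_ok : Tails.relK 12 4060 kk5 cert5 = true := by decide +kernel

theorem fus5_ok : Tails.fusK 12 4060 kk5 gk5 cert5 = true := by decide +kernel

theorem chain5_ok : Tails.chainK 12 4060 kk5 lev5 levW5 0 cert5.r (5 ^ 3) = true := by decide +kernel

theorem chain5in_ok : Tails.chainK 12 4060 kk5 lev5In levW5In cert5.a cert5.r (5 ^ 1) = true := by decide +kernel

theorem cert5_eqs : cert5.eqsOK = true := by decide +kernel

theorem cert5_comb : cert5.combOK = true := by decide +kernel

theorem cert5_shape : cert5.shapeOK = true ∧ cert5.p = 5 ∧ cert5.r = 3 ∧ cert5.r - cert5.a = 1 ∧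
    ¬ 5 ∣ cert5.m ∧ cert5.b = 1 ∧ ¬ 5 ^ (3 + 1) ∣ 145926144000 := by decide +kernel

theorem ord_ok : Tails.pickK 12 4060 slpTab5 ordIds ordK = true ∧
    ((List.range 3).all fun i => testK 12 4060 [ordK.getD i 0] ([7, 13, 29].getD i 0) &&
      !(ordK.getD i 0 == oneK 12 4060) && ordK.getD i 0 == pkF 12 (lk 12 (ordK.getD i 0)) 4060 0) = true ∧
    ordK.length = 3 := by decide +kernel

end CfsgLib.Schur.Sporadic.Ru
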