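import Cfsg.Agent.Lib.Schur.Ru.Check2Slp
import Cfsg.Agent.Lib.Schur.Ru.Check2Chain
import Cfsg.Agent.Lib.Schur.Ru.Check2Rels
import Cfsg.Agent.Lib.Schur.Ru.Check2Fus
import Cfsg.Agent.Lib.Schur.Ru.Check2Cert
import Cfsg.Agent.Lib.Schur.Ru.Check3
import Cfsg.Agent.Lib.Schur.Ru.Check5
import Cfsg.Agent.Lib.Schur.Basic

/-!
At most two: the bound on the multiplier of a group of order 145926144000 of permutations of 4060 points
given by seven generators.
-/

set_option autoImplicit false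
set_option maxRecDepth 100000

namespace CfsgLib.Schur.Sporadic.Ru

open CfsgLib.Sporadic.OutCert

/-- The seven generators. -/
def baseK : List ℕ := slpTab2.take 7

theorem base_ok : slpTab3.take 7 = baseK ∧ slpTab5.take 7 = baseK ∧ baseK.length = 7 := by decide +kernel

theorem base_two : slpTab2.take 7 = baseK := rfl

attribute [local irreducible] lk pkF allF compK baseK slpTab2 slpTab3 slpTab5 kk2 kk3 kk5 gk2 gk3 gk5 ordK
  lev2 lev2In lev3 lev3In lev5 lev5In cert2 cert3 cert5

universe u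

variable {Q : Type u} [Group Q] [Finite Q] (psi : Q →* Equiv.Perm (Fin 4060))
  (hpsi : Function.Injective psi) (hgen : ∀ i < 7, ∃ q : Q, Rep 12 4060 (baseK.getD i 0) (psi q))
  (hcard : Nat.card Q = 145926144000)

theorem hw : 4060 ≤ 2 ^ 12 := by norm_num

omit [Finite Q] in
include hgen in
theorem base_mem {tab : List ℕ} (h : tab.take 7 = baseK) :
    ∀ i < 7, ∃ q : Q, Rep 12 4060 (tab.getD i (oneK 12 4060)) (psi q) := by
  intro i hi
  obtain ⟨q, hq⟩ := hgen i hi
  refine ⟨q, ?_⟩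
  have hl : i < baseK.length := by rw [base_ok.2.2]; exact hi
  have e : tab.getD i (oneK 12 4060) = (tab.take 7).getD i (oneK 12 4060) := by
    simp [List.getD_eq_getElem?_getD, hi]
  rw [e, h, List.getD_eq_getElem _ _ hl, ← List.getD_eq_getElem _ 0 hl]
  exact hq

include hpsi hgen hcard

theorem factorization_two (Γ : Type u) [Group Γ] [Finite Γ] (σ : Γ →* Q) (hσ : Cfsg.IsStemExtension σ) :
    (Nat.card σ.ker).factorization 2 ≤ (2 : ℕ).factorization 2 := by
  haveI := Fact.mk Nat.prime_two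
  obtain ⟨hs, hDp, hr, ha, hm, hb, hQ⟩ := cert2_shape
  have hs2 := Tails.exists_slp psi hw (base_mem psi hgen base_two) slp2_ok
  choose y hy using Tails.exists_pick psi hw hs2 pick2_ok.1
  choose g hg using Tails.exists_pick psi hw hs2 pick2_ok.2
  have := Tails.factorization_card_ker_le cert2 cert2_eqs cert2_comb hs hDp hm y
    (Tails.rel_of_check psi hpsi hw hy rels2_ok) g (Tails.fus_of_check psi hpsi hw hy hg fus2_ok)
    ((congrArg (2 ^ ·) hr).trans_le (Tails.card_tailGen_ge_of_chain psi hw hy hpsi chain2_ok))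
    ((congrArg (2 ^ ·) ha).trans_le (Tails.card_tailGen_ge_of_chain psi hw hy hpsi chain2in_ok))
    (by rw [hr, hcard]; exact hQ) Γ σ hσ
  rwa [hb] at this

theorem factorization_three (Γ : Type u) [Group Γ] [Finite Γ] (σ : Γ →* Q) (hσ : Cfsg.IsStemExtension σ) :
    (Nat.card σ.ker).factorization 3 = 0 := by
  haveI := Fact.mk Nat.prime_three
  obtain ⟨hs, hDp, hr, ha, hm, hb, hQ⟩ := cert3_shape
  have hs3 := Tails.exists_slp psi hw (base_mem psi hgen base_ok.1) slp3_ok
  choose y hy using Tails.exists_pick psi hw hs3 pick3_ok.1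
  choose g hg using Tails.exists_pick psi hw hs3 pick3_ok.2
  have := Tails.factorization_card_ker_le cert3 cert3_eqs cert3_comb hs hDp hm y
    (Tails.rel_of_check psi hpsi hw hy rels3_ok) g (Tails.fus_of_check psi hpsi hw hy hg fus3_ok)
    ((congrArg (3 ^ ·) hr).trans_le (Tails.card_tailGen_ge_of_chain psi hw hy hpsi chain3_ok))
    ((congrArg (3 ^ ·) ha).trans_le (Tails.card_tailGen_ge_of_chain psi hw hy hpsi chain3in_ok))
    (by rw [hr, hcard]; exact hQ) Γ σ hσ
  simpa [hb] using this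

theorem factorization_five (Γ : Type u) [Group Γ] [Finite Γ] (σ : Γ →* Q) (hσ : Cfsg.IsStemExtension σ) :
    (Nat.card σ.ker).factorization 5 = 0 := by
  haveI := Fact.mk (show Nat.Prime 5 by norm_num)
  obtain ⟨hs, hDp, hr, ha, hm, hb, hQ⟩ := cert5_shape
  have hs5 := Tails.exists_slp psi hw (base_mem psi hgen base_ok.2.1) slp5_ok
  choose y hy using Tails.exists_pick psi hw hs5 pick5_ok.1
  choose g hg using Tails.exists_pick psi hw hs5 pick5_ok.2
  have := Tails.factorization_card_ker_le cert5 cert5_eqs cert5_comb hs hDp hm y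
    (Tails.rel_of_check psi hpsi hw hy rels5_ok) g (Tails.fus_of_check psi hpsi hw hy hg fus5_ok)
    ((congrArg (5 ^ ·) hr).trans_le (Tails.card_tailGen_ge_of_chain psi hw hy hpsi chain5_ok))
    ((congrArg (5 ^ ·) ha).trans_le (Tails.card_tailGen_ge_of_chain psi hw hy hpsi chain5in_ok))
    (by rw [hr, hcard]; exact hQ) Γ σ hσ
  simpa [hb] using this

theorem factorization_big (Γ : Type u) [Group Γ] [Finite Γ] (σ : Γ →* Q) (hσ : Cfsg.IsStemExtension σ)
    {m : ℕ} (hmp : m.Prime) {j : ℕ} (hj : j < 3) (hm : [7, 13, 29].getD j 0 = m)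
    (hm2 : ¬ m ^ 2 ∣ 145926144000) : (Nat.card σ.ker).factorization m = 0 := by
  haveI := Fact.mk hmp
  obtain ⟨h1, h2, h3⟩ := ord_ok
  have h := List.all_eq_true.1 h2 j (List.mem_range.2 hj)
  simp only [Bool.and_eq_true, Bool.not_eq_true', beq_eq_false_iff_ne, beq_iff_eq, hm] at h
  have hmem := Tails.exists_pick psi hw (Tails.exists_slp psi hw (base_mem psi hgen base_ok.2.1) slp5_ok) h1 j
  have hd : ordK.getD j (oneK 12 4060) = ordK.getD j 0 := by
    rw [List.getD_eq_getElem _ _ (h3 ▸ hj), List.getD_eq_getElem _ _ (h3 ▸ hj)]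
  rw [hd] at hmem
  obtain ⟨q, hq⟩ := Tails.exists_orderOf psi hw hpsi hmem h.1.1 h.1.2 h.2
  exact Tails.factorization_card_ker_of_orderOf σ hσ q (k := 1) (by rw [hq, pow_one]) (by rwa [hcard])

theorem card_ker_bound (Γ : Type u) [Group Γ] [Finite Γ] (σ : Γ →* Q) (hσ : Cfsg.IsStemExtension σ) :
    Nat.card σ.ker ≤ 2 := by
  refine Tails.card_ker_le σ hσ (by norm_num) fun p hp hd => ?_
  rw [hcard] at hd
  have h1 : p ∣ 2 ^ 14 * 3 ^ 3 * 5 ^ 3 * 7 * 13 * 29 := hd
  have q : ∀ r : ℕ, r.Prime → p ∣ r → p = r := fun r hr h => (Nat.prime_dvd_prime_iff_eq hp hr).1 h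
  simp only [Nat.Prime.dvd_mul hp] at h1
  rcases h1 with ((((h1 | h1) | h1) | h1) | h1) | h1
  · rw [q 2 Nat.prime_two (hp.dvd_of_dvd_pow h1)]
    exact factorization_two psi hpsi hgen hcard Γ σ hσ
  · rw [q 3 Nat.prime_three (hp.dvd_of_dvd_pow h1), factorization_three psi hpsi hgen hcard Γ σ hσ]
    exact Nat.zero_le _
  · rw [q 5 (by norm_num) (hp.dvd_of_dvd_pow h1), factorization_five psi hpsi hgen hcard Γ σ hσ]
    exact Nat.zero_le _
  · rw [q 7 (by norm_num) h1,
      factorization_big psi hpsi hgen hcard Γ σ hσ (m := 7) (j := 0) (by norm_num) (by norm_num) rfl (by norm_num)]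
    exact Nat.zero_le _
  · rw [q 13 (by norm_num) h1,
      factorization_big psi hpsi hgen hcard Γ σ hσ (m := 13) (j := 1) (by norm_num) (by norm_num) rfl (by norm_num)]
    exact Nat.zero_le _
  · rw [q 29 (by norm_num) h1,
      factorization_big psi hpsi hgen hcard Γ σ hσ (m := 29) (j := 2) (by norm_num) (by norm_num) rfl (by norm_num)]
    exact Nat.zero_le _

end CfsgLib.Schur.Sporadic.Ru
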