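import Cfsg.Agent.Lib.Schur.Basic

/-!
A double cover of the central quotient of a finite group with a commutator in the centre.
-/

set_option autoImplicit false

namespace CfsgLib.Schur.Sporadic.Ru

open Subgroup
open scoped commutatorElement

universe u

/-- The map of the derived subgroup onto the central quotient. -/
def derMap (H : Type u) [Group H] : commutator H →* H ⧸ center H :=
  (QuotientGroup.mk' (center H)).comp (commutator H).subtype

theorem derMap_surjective {H : Type u} [Group H] (hQ : commutator (H ⧸ center H) = ⊤) :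
    Function.Surjective (derMap H) := by
  intro q
  have hq : q ∈ (commutator H).map (QuotientGroup.mk' (center H)) := by
    rw [_root_.commutator_def, Subgroup.map_commutator,
      map_top_of_surjective _ (QuotientGroup.mk'_surjective _), ← _root_.commutator_def, hQ]
    exact mem_top q
  obtain ⟨d, hd, rfl⟩ := hq
  exact ⟨⟨d, hd⟩, rfl⟩

theorem derMap_isStem {H : Type u} [Group H] (hQ : commutator (H ⧸ center H) = ⊤) :
    Cfsg.IsStemExtension (derMap H) := by
  refine ⟨derMap_surjective hQ, fun z hz => mem_center_iff.2 fun g => ?_, fun z _ => ?_⟩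
  · exact Subtype.ext (mem_center_iff.1 ((QuotientGroup.eq_one_iff (z : H)).1 hz) g)
  · have h1 := Basic.range_sup_center_eq_top (derMap H) (derMap_surjective hQ) (QuotientGroup.mk' (center H))
      (le_of_eq (QuotientGroup.ker_mk' _)) (commutator H).subtype rfl
    obtain ⟨c, hc, he⟩ := Basic.commutator_le_map_of_sup_center _ h1 z.2
    exact (show c = z from Subtype.ext he) ▸ hc

theorem one_lt_card_ker {H : Type u} [Group H] [Finite H] {a b : H} (hne : a * b ≠ b * a)
    (hq : (a : H ⧸ center H) * (b : H ⧸ center H) = (b : H ⧸ center H) * (a : H ⧸ center H)) :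
    1 < Nat.card (derMap H).ker := by
  have hc : ⁅a, b⁆ ∈ commutator H := commutator_mem_commutator (mem_top a) (mem_top b)
  have hk : (⟨⁅a, b⁆, hc⟩ : commutator H) ∈ (derMap H).ker := by
    rw [MonoidHom.mem_ker]
    show QuotientGroup.mk' (center H) ⁅a, b⁆ = 1
    rw [map_commutatorElement, commutatorElement_eq_one_iff_mul_comm]
    exact hq
  haveI : Nontrivial (derMap H).ker := by
    refine ⟨⟨⟨_, hk⟩, 1, fun e => hne ?_⟩⟩
    exact commutatorElement_eq_one_iff_mul_comm.1 (congrArg Subtype.val (congrArg Subtype.val e))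
  exact Finite.one_lt_card

theorem hasMultiplier_of_bound {H : Type u} [Group H] [Finite H] (hQ : commutator (H ⧸ center H) = ⊤)
    {a b : H} (hne : a * b ≠ b * a)
    (hq : (a : H ⧸ center H) * (b : H ⧸ center H) = (b : H ⧸ center H) * (a : H ⧸ center H))
    (hb : ∀ (Γ : Type u) [Group Γ] [Finite Γ] (σ : Γ →* H ⧸ center H), Cfsg.IsStemExtension σ →
      Nat.card σ.ker ≤ 2) : Cfsg.HasCyclicSchurMultiplier (H ⧸ center H) 2 := by
  have h2 : Nat.card (derMap H).ker = 2 :=
    le_antisymm (hb _ _ (derMap_isStem hQ)) (one_lt_card_ker hne hq)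
  haveI : IsCyclic (derMap H).ker := isCyclic_of_prime_card (hp := ⟨Nat.prime_two⟩) h2
  refine Basic.hasSchurMultiplier_of_le (derMap H) (derMap_isStem hQ)
    (mulEquivOfCyclicCardEq (by rw [h2]; simp [Nat.card_eq_fintype_card])) fun Δ _ _ π hπ => ?_
  exact (hb Δ π hπ).trans (le_of_eq (by simp [Nat.card_eq_fintype_card]))

end CfsgLib.Schur.Sporadic.Ru
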