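import Cfsg.Agent.Lib.Schur.Ru.Bound
import Cfsg.Agent.Lib.Schur.Ru.Generic
import Cfsg.Agent.Lib.KnownC.RuGroup.Lines

/-!
The multiplier of the Rudvalis group has order two.
-/

set_option autoImplicit false
set_option maxRecDepth 100000
set_option maxHeartbeats 0
set_option Elab.async false

namespace CfsgLib.Schur.Sporadic.Ru

open CfsgLib.Sporadic.OutCert CfsgLib.KnownC.RuGroup Cfsg.Spor

/-- Orders and factors showing that a generator lies in the commutator subgroup. -/
def perfData : List (ℕ × ℕ × ℕ × List ℕ × List ℕ) := [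
    (4, 3, 13, [4, 0, 0, 4], [1, 4, 0, 3]),
    (4, 3, 13, [2, 4, 3, 1], [1, 4, 3, 1, 2]),
    (4, 3, 13, [2, 4, 3, 1], [1, 4, 2, 3, 0]),
    (8, 7, 7, [6, 6, 5, 5], [0, 5, 5, 3, 3, 5, 2, 3, 6, 5, 2, 0, 6, 0]),
    (12, 7, 5, [5, 6, 6, 5], [0, 0, 0, 2, 4, 0, 3, 5, 6, 3, 4, 1, 0, 6, 3]),
    (8, 5, 13, [0, 0, 2, 0], [2, 0, 0, 0, 5]),
    (26, 5, 7, [4, 1, 2, 3], [0, 0, 4, 2, 3, 0, 6])]

/-- Two words commuting in the group but not above it. -/
def witA : List ℕ := [6, 3, 6, 6, 5, 0, 0, 1, 6, 6, 3]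

/-- The second word. -/
def witB : List ℕ := [0, 2, 0, 5, 0, 0, 5, 0, 4, 6, 0, 5]

/-- The numbers of the letters of a word. -/
def kW (l : List ℕ) : List ℕ := l.map fun i => baseK.getD i 0

theorem fwd_ok : ((List.range 7).all fun j => (List.range 4060).all fun l =>
    Nat.beq (lk 12 (baseK.getD j 0) l) (fwdF j l / 4)) = true := by decide +kernel

theorem perf_ok : ((List.range 7).all fun j =>
    let e := perfData.getD j (0, 0, 0, [], [])
    ((e.2.2.2.1 ++ e.2.2.2.2).all fun x => Nat.blt x 7) &&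
      (Nat.beq (Nat.gcd e.1 (e.2.1 * e.2.2.1)) 1 &&
      (testK 12 4060 (kW [j]) e.1 && (testK 12 4060 (kW e.2.2.2.1) e.2.1 && (testK 12 4060 (kW e.2.2.2.2) e.2.2.1 &&
        allF (fun l => Nat.beq (appK 12 (kW [j]) l) (appK 12 (kW (e.2.2.2.1 ++ e.2.2.2.2)) l)) 4060))))) = true := by
  decide +kernel

theorem wit_ok : ((witA ++ witB).all fun x => Nat.blt x 7) = true ∧
    allF (fun l => Nat.beq (appK 12 (kW (witA ++ witB)) l) (appK 12 (kW (witB ++ witA)) l)) 4060 = true ∧
    ¬ (witA ++ witB).foldr (fun j u => actP (fwdF j) u) 0 = (witB ++ witA).foldr (fun j u => actP (fwdF j) u) 0 := by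
  decide +kernel

attribute [local irreducible] lk pkF allF compK baseK fwd0 fwd1 fwd2 fwd3 fwd4 fwd5 fwd6

/-- A word in the generators. -/
noncomputable def word (l : List ℕ) : fourRu := (l.map gen).prod

theorem word_append (l m : List ℕ) : word (l ++ m) = word l * word m := by
  simp [word]

theorem rep_line {j : ℕ} (hj : j < 7) : Rep 12 4060 (baseK.getD j 0) (lineAct (gen j)) := fun l => by
  rw [lineAct_gen]
  exact Nat.eq_of_beq_eq_true
    (List.all_eq_true.1 (List.all_eq_true.1 fwd_ok j (List.mem_range.2 hj)) l (List.mem_range.2 l.2))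

theorem rep_word : ∀ {l : List ℕ}, (∀ x ∈ l, x < 7) →
    List.Forall₂ (Rep 12 4060) (kW l) (l.map fun j => lineAct (gen j))
  | [], _ => List.Forall₂.nil
  | x :: _, h => List.Forall₂.cons (rep_line (h x List.mem_cons_self))
      (rep_word fun y hy => h y (List.mem_cons_of_mem _ hy))

theorem line_word (l : List ℕ) : lineAct (word l) = (l.map fun j => lineAct (gen j)).prod := by
  rw [word, map_list_prod, List.map_map]
  rfl

theorem eq_of_app {l m : List ℕ} (hl : ∀ x ∈ l, x < 7) (hm : ∀ x ∈ m, x < 7)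
    (h : allF (fun i => Nat.beq (appK 12 (kW l) i) (appK 12 (kW m) i)) 4060 = true) :
    (QuotientGroup.mk (word l) : Ru) = QuotientGroup.mk (word m) := by
  refine ruHom_injective (Equiv.ext fun i => Fin.ext ?_)
  rw [ruHom_mk, ruHom_mk, line_word, line_word, ← app_eq (rep_word hl) i, ← app_eq (rep_word hm) i]
  simp only [allF_iff, Nat.beq_eq] at h
  exact h i i.2

theorem pow_of_test {l : List ℕ} {m : ℕ} (hl : ∀ x ∈ l, x < 7) (h : testK 12 4060 (kW l) m = true) :
    (QuotientGroup.mk (word l) : Ru) ^ m = 1 := by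
  refine ruHom_injective ?_
  rw [map_pow, map_one, ruHom_mk, line_word]
  exact (test_iff (rep_word hl) m).1 h

theorem word_single (j : ℕ) : word [j] = gen j := by simp [word]

theorem gen_mem_commutator {j : ℕ} (hj : j < 7) : (QuotientGroup.mk (gen j) : Ru) ∈ commutator Ru := by
  have h := List.all_eq_true.1 perf_ok j (List.mem_range.2 hj)
  simp only [Bool.and_eq_true, List.all_eq_true, Nat.blt_eq, Nat.beq_eq] at h
  set e := perfData.getD j (0, 0, 0, [], []) with he
  obtain ⟨hl, hg, hj', hu, hv, hprod⟩ := h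
  have hju : ∀ x ∈ [j], x < 7 := fun x hx => by rw [List.mem_singleton.1 hx]; exact hj
  have e1 := pow_of_test hju hj'
  have e2 := pow_of_test (fun x hx => hl x (List.mem_append_left _ hx)) hu
  have e3 := pow_of_test (fun x hx => hl x (List.mem_append_right _ hx)) hv
  have e4 := eq_of_app hju hl hprod
  rw [word_single] at e1 e4
  rw [word_append, QuotientGroup.mk_mul] at e4
  refine (QuotientGroup.eq_one_iff (N := commutator Ru) _).1 ?_
  have f1 : (Abelianization.of (G := Ru) (QuotientGroup.mk (gen j))) ^ e.1 = 1 := by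
    rw [← map_pow, e1, map_one]
  have f2 : (Abelianization.of (G := Ru) (QuotientGroup.mk (gen j))) ^ (e.2.1 * e.2.2.1) = 1 := by
    rw [e4, map_mul, mul_pow, ← map_pow, ← map_pow, pow_mul (QuotientGroup.mk (word e.2.2.2.1) : Ru), e2, one_pow, mul_comm e.2.1,
      pow_mul (QuotientGroup.mk (word e.2.2.2.2) : Ru), e3, one_pow, map_one, one_mul]
  have f3 := pow_gcd_eq_one.2 ⟨f1, f2⟩
  rw [hg, pow_one] at f3
  exact f3

theorem commutator_Ru : commutator Ru = ⊤ := by
  refine top_le_iff.1 (closure_ru ▸ (Subgroup.closure_le _).2 ?_)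
  rintro _ ⟨j, hj, rfl⟩
  exact gen_mem_commutator hj

theorem act_word : ∀ (l : List ℕ) (u : Fin 16240),
    (act (word l) u : ℕ) = l.foldr (fun j x => actP (fwdF j) x) u
  | [], u => by simp [word]
  | x :: l, u => by
    rw [show word (x :: l) = gen x * word l from by simp [word], map_mul, Equiv.Perm.mul_apply, act_gen,
      act_word l u]
    rfl

theorem hasMultiplier : Cfsg.HasCyclicSchurMultiplier Cfsg.Spor.Ru 2 := by
  have hfin : Finite fourRu := Nat.finite_of_card_ne_zero (by rw [card_fourRu]; norm_num)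
  obtain ⟨hl, hc, hne⟩ := wit_ok
  simp only [List.all_eq_true, Nat.blt_eq] at hl
  refine hasMultiplier_of_bound commutator_Ru (a := word witA) (b := word witB) (fun h => hne ?_) ?_ ?_
  · have h' := congrArg (fun g => ((act g (⟨0, by norm_num⟩ : Fin 16240) : Fin 16240) : ℕ)) h
    simp only [← word_append, act_word] at h'
    exact h'
  · rw [← QuotientGroup.mk_mul, ← QuotientGroup.mk_mul, ← word_append, ← word_append]
    exact eq_of_app hl (fun x hx => hl x ((List.perm_append_comm).subset hx)) hc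
  · intro Γ _ _ σ hσ
    refine card_ker_bound ruHom ruHom_injective (fun i hi => ⟨QuotientGroup.mk (gen i), ?_⟩) card_Ru Γ σ hσ
    rw [ruHom_mk]
    exact rep_line hi

end CfsgLib.Schur.Sporadic.Ru
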